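import Groth.Agent.CohD7.SerreFF
import Mathlib.Algebra.Homology.DerivedCategory.KInjective

/-!
# Morphisms into complexes which stay K-injective under a fully faithful exact functor
-/

set_option autoImplicit false
set_option linter.style.haveILetI false
set_option backward.isDefEq.respectTransparency false
set_option backward.isDefEq.respectTransparency.types false

universe w w' v v' u u'

open CategoryTheory Category Limits DerivedCategory

noncomputable section

namespace Groth.Agent.CohD7

variable {A : Type u} [Category.{v} A] [Abelian A] [HasDerivedCategory.{w} A]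

/-- Morphisms in the derived category into a K-injective complex come from morphisms of complexes. -/
lemma exists_Q_map {K L : CochainComplex A ℤ} [L.IsKInjective] (φ : Q.obj K ⟶ Q.obj L) :
    ∃ f : K ⟶ L, Q.map f = φ := by
  obtain ⟨ψ, hψ⟩ := (CochainComplex.IsKInjective.Qh_map_bijective
    (K := (HomotopyCategory.quotient A (ComplexShape.up ℤ)).obj K) L).2
      ((quotientCompQhIso A).hom.app K ≫ φ ≫ (quotientCompQhIso A).inv.app L)
  obtain ⟨f, rfl⟩ := (HomotopyCategory.quotient A (ComplexShape.up ℤ)).map_surjective ψ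
  refine ⟨f, ?_⟩
  have hn := (quotientCompQhIso A).hom.naturality f
  rw [Functor.comp_map, hψ] at hn
  rw [← cancel_epi ((quotientCompQhIso A).hom.app K), ← hn]
  simp

/-- A morphism into a K-injective complex which is zero in the derived category is null-homotopic. -/
lemma homotopic_zero {K L : CochainComplex A ℤ} [L.IsKInjective] (f : K ⟶ L) (h : Q.map f = 0) :
    Nonempty (Homotopy f 0) := by
  refine ⟨HomotopyCategory.homotopyOfEq _ _ ((CochainComplex.IsKInjective.Qh_map_bijective
    (K := (HomotopyCategory.quotient A (ComplexShape.up ℤ)).obj K) L).1 ?_)⟩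
  have hn := (quotientCompQhIso A).hom.naturality f
  rw [h, comp_zero, Functor.comp_map] at hn
  rw [Functor.map_zero, Functor.map_zero, ← cancel_mono ((quotientCompQhIso A).hom.app L), zero_comp]
  exact hn

variable {B : Type u'} [Category.{v'} B] [Abelian B] [HasDerivedCategory.{w'} B]
  (Φ : B ⥤ A) [Φ.Full] [Φ.Faithful] [Φ.Additive] [PreservesFiniteLimits Φ] [PreservesFiniteColimits Φ]

theorem bijective_of_kInjective (M J : CochainComplex B ℤ) [J.IsKInjective]
    [CochainComplex.IsKInjective ((Φ.mapHomologicalComplex (ComplexShape.up ℤ)).obj J)] :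
    Function.Bijective (fun φ : Q.obj M ⟶ Q.obj J => Φ.mapDerivedCategory.map φ) := by
  let E := Φ.mapDerivedCategoryFactors
  have hE : ∀ f : M ⟶ J, Φ.mapDerivedCategory.map (Q.map f) ≫ E.hom.app J =
      E.hom.app M ≫ Q.map ((Φ.mapHomologicalComplex (ComplexShape.up ℤ)).map f) :=
    fun f => E.hom.naturality f
  refine ⟨fun φ ψ hφψ => ?_, fun ψ => ?_⟩
  · obtain ⟨f, hf⟩ := exists_Q_map (φ - ψ)
    rw [← sub_eq_zero, ← hf]
    have h0 : Q.map ((Φ.mapHomologicalComplex (ComplexShape.up ℤ)).map f) = 0 := by
      have hn := hE f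
      rw [hf, Functor.map_sub, sub_eq_zero.2 hφψ, zero_comp] at hn
      rw [← cancel_epi (E.hom.app M), comp_zero]
      exact hn.symm
    obtain ⟨hh⟩ := homotopic_zero _ h0
    rw [DerivedCategory.Q_map_eq_of_homotopy _ (liftHomotopy Φ (g := 0) (hh.trans (Homotopy.ofEq (Functor.map_zero _ _ _).symm))),
      Functor.map_zero]
  · obtain ⟨g, hg⟩ := exists_Q_map (E.inv.app M ≫ ψ ≫ E.hom.app J)
    obtain ⟨f, rfl⟩ := map_surjective Φ g
    refine ⟨Q.map f, ?_⟩
    rw [← cancel_mono (E.hom.app J)]
    refine (hE f).trans ((congrArg (E.hom.app M ≫ ·) hg).trans ?_)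
    exact Iso.hom_inv_id_app_assoc E M _

end Groth.Agent.CohD7

end
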