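import Groth.Agent.CohD7.KInj
import Groth.Agent.QCohRep7.Basic
import Groth.Agent.KZ.CohClass
import Groth.Agent.CohLimX.Basic
import Groth.Agent.FibSiteLib.DerivedRetract
import Mathlib.Algebra.Homology.ShortComplex.ExactFunctor

/-!
# Derived categories of quasi-coherent and coherent modules on a Noetherian scheme
-/

set_option autoImplicit false
set_option linter.style.haveILetI false
set_option backward.isDefEq.respectTransparency false
set_option backward.isDefEq.respectTransparency.types false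

universe w w' v v' u u'

open CategoryTheory CategoryTheory.Limits AlgebraicGeometry TopologicalSpace DerivedCategory
open scoped ZeroObject

attribute [local instance] HasDerivedCategory.standard

noncomputable section

namespace Groth.Agent.CohD7

section Exact

variable {A : Type u} [Category.{v} A] [Abelian A] [HasDerivedCategory.{w} A]
  {B : Type u'} [Category.{v'} B] [Abelian B] [HasDerivedCategory.{w'} B]
  (Φ : B ⥤ A) [Φ.Additive] [PreservesFiniteLimits Φ] [PreservesFiniteColimits Φ]

/-- Cohomology of the image under an exact functor. -/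
def homologyMapIso (M : CochainComplex B ℤ) (n : ℤ) :
    (homologyFunctor A n).obj (Φ.mapDerivedCategory.obj (Q.obj M)) ≅ Φ.obj ((homologyFunctor B n).obj (Q.obj M)) :=
  (homologyFunctor A n).mapIso (Φ.mapDerivedCategoryFactors.app M) ≪≫
    (homologyFunctorFactors A n).app _ ≪≫ (M.sc n).mapHomologyIso Φ ≪≫
    Φ.mapIso ((homologyFunctorFactors B n).app M).symm

lemma exists_homologyIso (M : DerivedCategory B) (n : ℤ) :
    Nonempty ((homologyFunctor A n).obj (Φ.mapDerivedCategory.obj M) ≅ Φ.obj ((homologyFunctor B n).obj M)) := by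
  let e := Q.objObjPreimageIso M
  exact ⟨(homologyFunctor A n).mapIso (Φ.mapDerivedCategory.mapIso e.symm) ≪≫ homologyMapIso Φ _ n ≪≫
    Φ.mapIso ((homologyFunctor B n).mapIso e)⟩

lemma isGE_map (M : DerivedCategory B) (a : ℤ) (h : M.IsGE a) : (Φ.mapDerivedCategory.obj M).IsGE a :=
  (isGE_iff _ a).2 fun n hn =>
    (Φ.map_isZero ((isGE_iff M a).1 h n hn)).of_iso (exists_homologyIso Φ M n).some

lemma isLE_map (M : DerivedCategory B) (b : ℤ) (h : M.IsLE b) : (Φ.mapDerivedCategory.obj M).IsLE b :=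
  (isLE_iff _ b).2 fun n hn =>
    (Φ.map_isZero ((isLE_iff M b).1 h n hn)).of_iso (exists_homologyIso Φ M n).some

variable [Φ.Faithful]

lemma isGE_of_map (M : DerivedCategory B) (a : ℤ) (h : (Φ.mapDerivedCategory.obj M).IsGE a) : M.IsGE a :=
  (isGE_iff _ a).2 fun n hn => by
    rw [IsZero.iff_id_eq_zero]
    refine Φ.map_injective ?_
    rw [Φ.map_id, Φ.map_zero, ← IsZero.iff_id_eq_zero]
    exact ((isGE_iff _ a).1 h n hn).of_iso (exists_homologyIso Φ M n).some.symm

lemma isLE_of_map (M : DerivedCategory B) (b : ℤ) (h : (Φ.mapDerivedCategory.obj M).IsLE b) : M.IsLE b :=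
  (isLE_iff _ b).2 fun n hn => by
    rw [IsZero.iff_id_eq_zero]
    refine Φ.map_injective ?_
    rw [Φ.map_id, Φ.map_zero, ← IsZero.iff_id_eq_zero]
    exact ((isLE_iff _ b).1 h n hn).of_iso (exists_homologyIso Φ M n).some.symm

end Exact

variable {X : Scheme.{u}} [IsNoetherian X]
  [ObjectProperty.ContainsZero (fun M : X.Modules => Coh.IsQCoh M)] [ObjectProperty.IsClosedUnderKernels (fun M : X.Modules => Coh.IsQCoh M)]
  [ObjectProperty.IsClosedUnderCokernels (fun M : X.Modules => Coh.IsQCoh M)] [ObjectProperty.IsClosedUnderFiniteProducts (fun M : X.Modules => Coh.IsQCoh M)]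
  [PreservesFiniteLimits (ObjectProperty.ι (fun M : X.Modules => Coh.IsQCoh M))]
  [PreservesFiniteColimits (ObjectProperty.ι (fun M : X.Modules => Coh.IsQCoh M))]

/-- `D(QCoh) ⥤ D(O_X)` is bijective on morphisms into bounded below objects. -/
theorem bijective_qcoh (M N : DerivedCategory (ObjectProperty.FullSubcategory (fun M : X.Modules => Coh.IsQCoh M)))
    (a : ℤ) (hN : N.IsGE a) :
    Function.Bijective (fun φ : M ⟶ N =>
      (ObjectProperty.ι (fun M : X.Modules => Coh.IsQCoh M)).mapDerivedCategory.map φ) := by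
  haveI := hN
  let ι := ObjectProperty.ι (fun M : X.Modules => Coh.IsQCoh M)
  haveI : EnoughInjectives (ObjectProperty.FullSubcategory (fun M : X.Modules => Coh.IsQCoh M)) :=
    haveI := QCohSupX.isGrothendieckAbelian_qcoh X
    inferInstanceAs (EnoughInjectives (QCohCat.QCoh X))
  obtain ⟨C, hC, ⟨eN⟩⟩ := N.exists_iso_Q_obj_of_isGE a
  obtain ⟨J, s, hJ, hinj, -, hs⟩ := TriCat.exists_quasiIso_resolution
    (fun Y : ObjectProperty.FullSubcategory (fun M : X.Modules => Coh.IsQCoh M) => Injective Y)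
    ⟨_, isZero_zero _, Injective.zero_injective⟩
    (fun Y => ⟨Injective.under Y, Injective.ι Y, inferInstance, inferInstance⟩) C a
  haveI := hs
  haveI := hJ
  haveI : ∀ m, Injective (J.X m) := hinj
  haveI : J.IsKInjective := CochainComplex.isKInjective_of_injective J a
  let J' : CochainComplex X.Modules ℤ := (ι.mapHomologicalComplex (ComplexShape.up ℤ)).obj J
  haveI : J'.IsStrictlyGE a := (CochainComplex.isStrictlyGE_iff _ _).2 fun i hi =>
    ι.map_isZero (J.isZero_of_isStrictlyGE a i hi)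
  haveI : ∀ m, Injective (J'.X m) := fun m => InjQCoh7.injective_obj (J.X m) (hinj m)
  haveI : J'.IsKInjective := CochainComplex.isKInjective_of_injective J' a
  haveI := (isIso_Q_map_iff_quasiIso (φ := s)).2 hs
  let eN' : N ≅ Q.obj J := eN ≪≫ asIso (Q.map s)
  let eM := (Q.objObjPreimageIso M).symm
  have h : (fun φ : M ⟶ N => ι.mapDerivedCategory.map φ) =
      ((ι.mapDerivedCategory.mapIso eM).homCongr (ι.mapDerivedCategory.mapIso eN')).symm ∘
        (fun φ => ι.mapDerivedCategory.map φ) ∘ eM.homCongr eN' := by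
    ext φ
    simp [← Functor.map_comp]
  show Function.Bijective fun φ : M ⟶ N => ι.mapDerivedCategory.map φ
  rw [h]
  exact (Equiv.bijective _).comp ((bijective_of_kInjective ι _ J).comp (Equiv.bijective _))

/-- The essential image on bounded objects. -/
theorem exists_preimage_qcoh (K : DCoh.D X) (a b : ℤ) (ha : K.IsGE a) (hb : K.IsLE b) (hK : DCoh.IsQCohD K) :
    ∃ M : DerivedCategory (ObjectProperty.FullSubcategory (fun M : X.Modules => Coh.IsQCoh M)),
      M.IsGE a ∧ M.IsLE b ∧
        Nonempty ((ObjectProperty.ι (fun M : X.Modules => Coh.IsQCoh M)).mapDerivedCategory.obj M ≅ K) := by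
  haveI := ha
  haveI := hb
  let ι := ObjectProperty.ι (fun M : X.Modules => Coh.IsQCoh M)
  obtain ⟨L, a₀, -, hq, -, ⟨e⟩⟩ := QCohRep7.exists_injective_rep K a b hK
  let L' : CochainComplex (ObjectProperty.FullSubcategory (fun M : X.Modules => Coh.IsQCoh M)) ℤ :=
    { X := fun m => ⟨L.X m, hq m⟩
      d := fun i j => ObjectProperty.homMk (L.d i j)
      shape := fun i j hij => ObjectProperty.hom_ext _ (L.shape i j hij)
      d_comp_d' := fun i j k _ _ => ObjectProperty.hom_ext _ (L.d_comp_d i j k) }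
  let e' : ι.mapDerivedCategory.obj (Q.obj L') ≅ K := ι.mapDerivedCategoryFactors.app L' ≪≫
    Q.mapIso (HomologicalComplex.Hom.isoOfComponents (fun _ => Iso.refl _) (by
      intro i j _
      simp [L', ι])) ≪≫ e
  refine ⟨Q.obj L', isGE_of_map ι _ a ?_, isLE_of_map ι _ b ?_, ⟨e'⟩⟩
  · exact (isGE_iff _ a).2 fun n hn =>
      ((isGE_iff K a).1 ha n hn).of_iso ((homologyFunctor X.Modules n).mapIso e')
  · exact (isLE_iff _ b).2 fun n hn =>
      ((isLE_iff K b).1 hb n hn).of_iso ((homologyFunctor X.Modules n).mapIso e')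

/-- Coherent objects of `QCoh`. -/
def cohIn (X : Scheme.{u}) : ObjectProperty (ObjectProperty.FullSubcategory (fun M : X.Modules => Coh.IsQCoh M)) :=
  fun M => Coh.IsCoh M.obj

instance isSerreClass_cohIn : (cohIn X).IsSerreClass where
  exists_zero := ⟨_, isZero_zero _, by
    have hz : IsZero ((ObjectProperty.ι (fun M : X.Modules => Coh.IsQCoh M)).obj
      (0 : ObjectProperty.FullSubcategory (fun M : X.Modules => Coh.IsQCoh M))) := Functor.map_isZero _ (isZero_zero _)
    exact (KZ.isClosedUnderIsomorphisms_isCoh (X := X)).of_iso ((isZero_zero X.Modules).iso hz) KZ.isCoh_zero⟩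
  prop_of_mono {M N} f _ hN := QCoh.isCoh_of_mono ((ObjectProperty.ι _).map f) hN M.property
  prop_of_epi {M N} f _ hM := QCoh.isCoh_of_epi ((ObjectProperty.ι _).map f) hM N.property
  prop_X₂_of_shortExact {S} hS h₁ h₃ :=
    KZ.isCoh_X₂ (hS.map_of_exact (ObjectProperty.ι (fun M : X.Modules => Coh.IsQCoh M))) h₁ h₃

/-- Lifting coherent quotients to coherent submodules. -/
theorem exists_lift_coh (M N : ObjectProperty.FullSubcategory (fun M : X.Modules => Coh.IsQCoh M)) (π : M ⟶ N)
    (hπ : Epi π) (hN : cohIn X N) :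
    ∃ (M' : ObjectProperty.FullSubcategory (fun M : X.Modules => Coh.IsQCoh M)) (i : M' ⟶ M),
      Mono i ∧ cohIn X M' ∧ Epi (i ≫ π) := by
  let ι := ObjectProperty.ι (fun M : X.Modules => Coh.IsQCoh M)
  haveI := hπ
  haveI : Epi π.hom := inferInstanceAs (Epi (ι.map π))
  obtain ⟨s, hs, hsfin, hsU⟩ := X.isBasis_affineOpens.exists_finite_of_isCompact
    (U := ⊤) CompactSpace.isCompact_univ
  let κ : Type u := s
  haveI : Finite κ := hsfin.to_subtype
  have hcov : ∀ x : X, ∃ k : κ, x ∈ k.1 := fun x => by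
    obtain ⟨k, hk, hxk⟩ := Opens.mem_sSup.1 ((SetLike.ext_iff.1 hsU x).1 trivial)
    exact ⟨⟨k, hk⟩, hxk⟩
  haveI : ∀ k : κ, Module.Finite Γ(X, k.1) Γ(N.obj, k.1) := fun k => QCoh.finite_sections hN (hs k.2)
  choose n g hg using fun k : κ => Module.Finite.exists_fin (R := Γ(X, k.1)) (M := Γ(N.obj, k.1))
  choose t ht using fun (k : κ) (l : Fin (n k)) =>
    QCoh.app_surjective_of_epi M.property N.property π.hom (hs k.2) (g k l)
  obtain ⟨F, j, hj, hF, hmem⟩ := CohLimX.exists_coh_mono_of_sections M.property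
    (κ := Σ k : κ, Fin (n k)) (fun q => q.1.1) (fun q => hs q.1.2) (fun q => t q.1 q.2)
  haveI := hj
  let M' : ObjectProperty.FullSubcategory (fun M : X.Modules => Coh.IsQCoh M) := ⟨F, hF.1⟩
  let i : M' ⟶ M := ObjectProperty.homMk j
  refine ⟨M', i, ι.mono_of_mono_map (inferInstanceAs (Mono j)), hF, ι.epi_of_epi_map ?_⟩
  show Epi (j ≫ π.hom)
  have hC := QCoh.isQCoh_cokernel hF.1 N.property (j ≫ π.hom)
  refine Preadditive.epi_of_isZero_cokernel _ (QCoh.isZero_of_cover hC (fun k : κ => k.1) (fun k => hs k.2) hcov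
    fun k => subsingleton_of_forall_eq 0 fun c => ?_)
  obtain ⟨y, rfl⟩ := QCoh.app_surjective_of_epi N.property hC (cokernel.π (j ≫ π.hom)) (hs k.2) c
  have hy : y ∈ Submodule.span Γ(X, k.1) (Set.range (g k)) := hg k ▸ Submodule.mem_top
  induction hy using Submodule.span_induction with
  | mem z hz =>
    obtain ⟨l, rfl⟩ := hz
    obtain ⟨w, hw⟩ := hmem ⟨k, l⟩
    rw [← ht k l, ← hw]
    refine (congr(($(cokernel.condition (j ≫ π.hom))).app k.1 w) : _).trans ?_
    rw [Scheme.Modules.Hom.zero_app]; rfl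
  | zero => exact map_zero _
  | add a b _ _ ha hb => rw [map_add, ha, hb, add_zero]
  | smul r a _ ha => rw [Scheme.Modules.Hom.app_smul, ha, smul_zero]

end Groth.Agent.CohD7

end
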