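import Groth.Agent.H9Misc.SubcomplexP
import Mathlib.Algebra.Homology.DerivedCategory.ExactFunctor
import Mathlib.Algebra.Homology.DerivedCategory.Fractions
import Mathlib.Algebra.Homology.DerivedCategory.TStructure
import Mathlib.Algebra.Homology.DerivedCategory.HomologySequence
import Mathlib.CategoryTheory.ObjectProperty.FiniteProducts
import Mathlib.CategoryTheory.Abelian.Subcategory

/-! `D⁻(B) ≃ D⁻_P(A)` for a fully faithful exact functor onto a Serre class with enough lifts. -/

universe w w' v v' u u'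

open CategoryTheory Category Limits DerivedCategory
open Groth.Agent.H9Misc

namespace Groth.Agent.CohD7

variable {A : Type u} [Category.{v} A] [Abelian A] {B : Type u'} [Category.{v'} B] [Abelian B]
  (Φ : B ⥤ A) [Φ.Full] [Φ.Faithful] [Φ.Additive] [PreservesFiniteLimits Φ] [PreservesFiniteColimits Φ]
  (P : ObjectProperty A) [P.IsSerreClass]
  (hP₁ : ∀ M : B, P (Φ.obj M)) (hP₂ : ∀ M : A, P M → ∃ N : B, Nonempty (Φ.obj N ≅ M))

lemma quasiIso_map_iff {M N : CochainComplex B ℤ} (f : M ⟶ N) :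
    QuasiIso ((Φ.mapHomologicalComplex (ComplexShape.up ℤ)).map f) ↔ QuasiIso f :=
  HomologicalComplex.quasiIso_map_iff_of_preservesHomology f Φ

lemma map_surjective {M N : CochainComplex B ℤ}
    (g : (Φ.mapHomologicalComplex (ComplexShape.up ℤ)).obj M ⟶ (Φ.mapHomologicalComplex (ComplexShape.up ℤ)).obj N) :
    ∃ f : M ⟶ N, (Φ.mapHomologicalComplex (ComplexShape.up ℤ)).map f = g :=
  ⟨{ f := fun n => Φ.preimage (g.f n)
     comm' := fun i j _ => Φ.map_injective (by
      rw [Φ.map_comp, Φ.map_comp]; erw [Φ.map_preimage, Φ.map_preimage]; exact g.comm i j) },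
    HomologicalComplex.hom_ext _ _ fun n => Φ.map_preimage (g.f n)⟩

/-- A null-homotopy after a fully faithful functor comes from one in the source. -/
noncomputable def liftHomotopy {M N : CochainComplex B ℤ} {f g : M ⟶ N}
    (h : Homotopy ((Φ.mapHomologicalComplex (ComplexShape.up ℤ)).map f) ((Φ.mapHomologicalComplex (ComplexShape.up ℤ)).map g)) :
    Homotopy f g where
  hom i j := Φ.preimage (h.hom i j)
  zero i j hij := Φ.map_injective (by erw [Φ.map_preimage, Φ.map_zero]; exact h.zero i j hij)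
  comm n := Φ.map_injective (by
    have := h.comm n
    simp only [dNext, prevD, AddMonoidHom.mk'_apply, Functor.map_add, Functor.map_comp] at this ⊢
    erw [Φ.map_preimage, Φ.map_preimage]
    exact this)

include hP₁ in
lemma prop_homology (M : CochainComplex B ℤ) (n : ℤ) :
    P (((Φ.mapHomologicalComplex (ComplexShape.up ℤ)).obj M).homology n) :=
  P.prop_of_epi (HomologicalComplex.homologyπ _ n)
    (P.prop_of_mono (HomologicalComplex.iCycles _ n) (hP₁ (M.X n)))

variable [HasDerivedCategory.{w} A]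
  (hlift : ∀ (X Y : A) (π : X ⟶ Y), Epi π → P Y → ∃ (X' : A) (i : X' ⟶ X), Mono i ∧ P X' ∧ Epi (i ≫ π))

include hlift hP₂

omit [Φ.Additive] [PreservesFiniteLimits Φ] [PreservesFiniteColimits Φ] [HasDerivedCategory.{w} A] hlift in
/-- A complex with terms in the class comes from the source of `Φ`. -/
lemma exists_lift (K : CochainComplex P.FullSubcategory ℤ) [Φ.Additive] :
    ∃ (M : CochainComplex B ℤ), Nonempty ((Φ.mapHomologicalComplex (ComplexShape.up ℤ)).obj M ≅
      (P.ι.mapHomologicalComplex (ComplexShape.up ℤ)).obj K) := by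
  choose N e using fun n => hP₂ (K.X n).obj (K.X n).property
  refine ⟨{ X := N
            d := fun i j => Φ.preimage ((e i).some.hom ≫ P.ι.map (K.d i j) ≫ (e j).some.inv)
            shape := fun i j hij => Φ.map_injective (by simp [K.shape i j hij])
            d_comp_d' := fun i j k _ _ => Φ.map_injective (by
              simp only [Φ.map_comp, Φ.map_preimage, Φ.map_zero, assoc, Iso.inv_hom_id_assoc]
              rw [← P.ι.map_comp_assoc, K.d_comp_d, P.ι.map_zero, zero_comp, comp_zero]) },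
    ⟨HomologicalComplex.Hom.isoOfComponents (fun n => (e n).some) fun i j _ => ?_⟩⟩
  show _ = Φ.map (Φ.preimage _) ≫ _
  rw [Φ.map_preimage]
  exact ((Category.assoc _ _ _).trans ((congrArg (_ ≫ ·) ((Category.assoc _ _ _).trans ((congrArg (_ ≫ ·) (e j).some.inv_hom_id).trans (Category.comp_id _)))))).symm

/-- Replace a complex by a bounded above complex with terms in the image. -/
lemma refine_ (K : CochainComplex A ℤ) (b : ℤ) [K.IsLE b] (hH : ∀ n, P (K.homology n)) :
    ∃ (M : CochainComplex B ℤ) (t : (Φ.mapHomologicalComplex (ComplexShape.up ℤ)).obj M ⟶ K),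
      M.IsStrictlyLE b ∧ QuasiIso t := by
  have hq : QuasiIso (K.ιTruncLE b) := (CochainComplex.quasiIso_ιTruncLE_iff K b).2 inferInstance
  have hH' : ∀ n, P ((K.truncLE b).homology n) := fun n => by
    have := (quasiIsoAt_iff_isIso_homologyMap (K.ιTruncLE b) n).1 inferInstance
    exact P.prop_of_iso (asIso (HomologicalComplex.homologyMap (K.ιTruncLE b) n)).symm (hH n)
  have := SubcomplexP.quasiIso_inclusion P hlift (K.truncLE b) hH' b
  obtain ⟨M, ⟨e⟩⟩ := exists_lift Φ P hP₂ (SubcomplexP.subcx P hlift (K.truncLE b) hH' b)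
  refine ⟨M, e.hom ≫ SubcomplexP.inclusion P hlift (K.truncLE b) hH' b ≫ K.ιTruncLE b,
    (CochainComplex.isStrictlyLE_iff _ _).2 fun i hi => ?_, inferInstance⟩
  rw [IsZero.iff_id_eq_zero]
  refine Φ.map_injective ?_
  rw [Φ.map_id, Φ.map_zero, ← IsZero.iff_id_eq_zero]
  exact (P.ι.map_isZero ((SubcomplexP.subcx P hlift (K.truncLE b) hH' b).isZero_of_isStrictlyLE b i hi)).of_iso
    ((HomologicalComplex.eval _ _ i).mapIso e)

variable [HasDerivedCategory.{w'} B]

theorem exists_preimage (K : DerivedCategory A) (b : ℤ) (hK : K.IsLE b)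
    (hH : ∀ n : ℤ, P ((DerivedCategory.homologyFunctor A n).obj K)) :
    ∃ M : DerivedCategory B, M.IsLE b ∧ Nonempty (Φ.mapDerivedCategory.obj M ≅ K) := by
  obtain ⟨C, hC, ⟨e⟩⟩ := K.exists_iso_Q_obj_of_isLE b
  obtain ⟨M, t, hM, ht⟩ := refine_ Φ P hP₂ hlift C b fun n => P.prop_of_iso
    ((DerivedCategory.homologyFunctor A n).mapIso e ≪≫ (homologyFunctorFactors A n).app C) (hH n)
  have := (isIso_Q_map_iff_quasiIso (φ := t)).2 ht
  exact ⟨Q.obj M, inferInstance, ⟨Φ.mapDerivedCategoryFactors.app M ≪≫ asIso (Q.map t) ≪≫ e.symm⟩⟩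

include hP₁ in
theorem bijective_Q (M N : CochainComplex B ℤ) (b : ℤ) [M.IsStrictlyLE b] :
    Function.Bijective (fun φ : Q.obj M ⟶ Q.obj N => Φ.mapDerivedCategory.map φ) := by
  let G : CochainComplex B ℤ ⥤ CochainComplex A ℤ := Φ.mapHomologicalComplex (ComplexShape.up ℤ)
  let E := Φ.mapDerivedCategoryFactors
  have hG : (G.obj M).IsStrictlyLE b := (CochainComplex.isStrictlyLE_iff _ _).2 fun i hi =>
    Φ.map_isZero (M.isZero_of_isStrictlyLE b i hi)
  have hle : (G.obj M).IsLE b := inferInstance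
  have leX : ∀ (X : CochainComplex A ℤ) (s : X ⟶ G.obj M), QuasiIso s →
      X.IsLE b ∧ ∀ n, P (X.homology n) := fun X s hs => by
    refine ⟨(CochainComplex.isLE_iff X b).2 fun i hi => ?_, fun n => ?_⟩
    · exact (exactAt_iff_of_quasiIsoAt s i).2 ((G.obj M).exactAt_of_isLE b i hi)
    · have := (quasiIsoAt_iff_isIso_homologyMap s n).1 inferInstance
      exact P.prop_of_iso (asIso (HomologicalComplex.homologyMap s n)).symm (prop_homology Φ P hP₁ M n)
  have key : ∀ φ : Q.obj M ⟶ Q.obj N, Φ.mapDerivedCategory.map φ = 0 → φ = 0 := by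
    intro φ hφ
    obtain ⟨M', hM', s, hs, f, rfl⟩ := right_fac_of_isStrictlyLE φ b
    have hf : Q.map (G.map f) = 0 := by
      have hs' : IsIso (Φ.mapDerivedCategory.map (Q.map s)) := inferInstance
      have h₁ : Φ.mapDerivedCategory.map (Q.map f) = 0 := by
        rw [Functor.map_comp, Functor.map_inv] at hφ
        rw [← cancel_epi (inv (Φ.mapDerivedCategory.map (Q.map s))), hφ, comp_zero]
      have h₂ := E.hom.naturality f
      rw [Functor.comp_map, h₁, zero_comp] at h₂
      rw [← cancel_epi (E.hom.app M'), comp_zero]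
      exact h₂.symm
    have hle' : (G.obj M').IsStrictlyLE b := (CochainComplex.isStrictlyLE_iff _ _).2 fun i hi =>
      Φ.map_isZero (M'.isZero_of_isStrictlyLE b i hi)
    have e' : Qh.map ((HomotopyCategory.quotient _ _).map (G.map f)) = Qh.map ((HomotopyCategory.quotient _ _).map 0) := by
      have h := NatIso.naturality_1 (quotientCompQhIso A).symm (G.map f)
      rw [hf] at h
      refine h.symm.trans ?_
      simp
    obtain ⟨X, t, ht, et⟩ := (MorphismProperty.map_eq_iff_precomp Qh (HomotopyCategory.quasiIso A _) _ _).1 e'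
    obtain ⟨X, rfl⟩ := HomotopyCategory.quotient_obj_surjective X
    obtain ⟨t, rfl⟩ := (HomotopyCategory.quotient _ _).map_surjective t
    have ht' : QuasiIso t := (HomotopyCategory.quotient_map_mem_quasiIso_iff t).1 ht
    obtain ⟨hX, hXH⟩ : CochainComplex.IsLE X b ∧ ∀ n, P (X.homology n) := by
      refine ⟨(CochainComplex.isLE_iff X b).2 fun i hi => (exactAt_iff_of_quasiIsoAt t i).2
        ((G.obj M').exactAt_of_isLE b i hi), fun n => ?_⟩
      have := (quasiIsoAt_iff_isIso_homologyMap t n).1 inferInstance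
      exact P.prop_of_iso (asIso (HomologicalComplex.homologyMap t n)).symm (prop_homology Φ P hP₁ M' n)
    obtain ⟨M'', r, _, hr⟩ := refine_ Φ P hP₂ hlift X b hXH
    obtain ⟨u, hu⟩ := map_surjective Φ (r ≫ t)
    have hu' : QuasiIso u := (quasiIso_map_iff Φ u).1 (hu ▸ inferInstance)
    have hz : Q.map (u ≫ f) = Q.map (0 : M'' ⟶ N) := by
      refine DerivedCategory.Q_map_eq_of_homotopy _ (liftHomotopy Φ (HomotopyCategory.homotopyOfEq _ _ ?_))
      rw [Functor.map_comp, hu, Functor.map_zero, Functor.map_comp, Functor.map_comp, assoc, et]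
      simp
    have := (isIso_Q_map_iff_quasiIso (φ := u)).2 hu'
    rw [Functor.map_comp, Functor.map_zero] at hz
    rw [(cancel_epi (Q.map u)).1 (hz.trans comp_zero.symm), comp_zero]
  refine ⟨fun φ ψ h => sub_eq_zero.1 (key _ ?_), fun φ => ?_⟩
  · rw [Functor.map_sub]; exact sub_eq_zero.2 h
  · obtain ⟨X, s, hs, g, e⟩ := right_fac ((E.app M).inv ≫ φ ≫ (E.app N).hom)
    have hs' := (isIso_Q_map_iff_quasiIso (φ := s)).1 hs
    obtain ⟨hX, hXH⟩ := leX X s hs'
    obtain ⟨M', r, _, hr⟩ := refine_ Φ P hP₂ hlift X b hXH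
    obtain ⟨u, hu⟩ := map_surjective Φ (r ≫ s)
    obtain ⟨f, hf⟩ := map_surjective Φ (r ≫ g)
    have : IsIso (Q.map u) := (isIso_Q_map_iff_quasiIso (φ := u)).2 ((quasiIso_map_iff Φ u).1 (hu ▸ inferInstance))
    refine ⟨inv (Q.map u) ≫ Q.map f, ?_⟩
    show Φ.mapDerivedCategory.map _ = φ
    rw [Functor.map_comp, Functor.map_inv, IsIso.inv_comp_eq, ← cancel_mono (E.app N).hom]
    have h₁ := E.hom.naturality u
    have h₂ := E.hom.naturality f
    refine h₂.trans ?_
    have eφ : φ ≫ (E.app N).hom = (E.app M).hom ≫ inv (Q.map s) ≫ Q.map g := by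
      rw [← e]; exact (Iso.hom_inv_id_assoc _ _).symm
    rw [assoc, eφ]
    refine Eq.trans ?_ ((congrArg (· ≫ _) h₁).symm.trans (assoc _ _ _))
    show E.hom.app M' ≫ Q.map (G.map f) = (E.hom.app M' ≫ Q.map (G.map u)) ≫ inv (Q.map s) ≫ Q.map g
    rw [hu, hf, Q.map_comp, Q.map_comp]
    simp

include hP₁ in
theorem bijective (M N : DerivedCategory B) (b : ℤ) (hM : M.IsLE b) :
    Function.Bijective (fun φ : M ⟶ N => Φ.mapDerivedCategory.map φ) := by
  obtain ⟨CM, _, ⟨eM⟩⟩ := M.exists_iso_Q_obj_of_isLE b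
  have := Localization.essSurj (Q (C := B)) (HomologicalComplex.quasiIso _ (ComplexShape.up ℤ))
  let eN := (Q.objObjPreimageIso N).symm
  have h : (fun φ : M ⟶ N => Φ.mapDerivedCategory.map φ) =
      ((Φ.mapDerivedCategory.mapIso eM).homCongr (Φ.mapDerivedCategory.mapIso eN)).symm ∘
        (fun φ => Φ.mapDerivedCategory.map φ) ∘ eM.homCongr eN := by
    ext φ
    simp [← Functor.map_comp]
  rw [h]
  exact (Equiv.bijective _).comp ((bijective_Q Φ P hP₁ hP₂ hlift CM _ b).comp (Equiv.bijective _))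

end Groth.Agent.CohD7
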